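import Groth.Agent.L25.Bridge.Spec
import Groth.Agent.L25.GaPts
import Groth.Prelude.Def_Red2

/-!
The additive group over an affine base as the spectrum of the symmetric algebra.
-/

set_option autoImplicit false
set_option backward.isDefEq.respectTransparency.types false

universe u

open CategoryTheory CategoryTheory.Limits MonoidalCategory CartesianMonoidalCategory AlgebraicGeometry
open scoped TensorProduct MonObj

noncomputable section

namespace Groth.L26.DimOne

open Groth.L25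

variable (Z T : Type u) [CommRing Z] [CommRing T] [Algebra Z T]

/-- Extension of scalars of the symmetric algebra in one variable. -/
def toTensor : SymmetricAlgebra T T →ₐ[T] T ⊗[Z] SymmetricAlgebra Z Z :=
  GaPts.liftGen ((1 : T) ⊗ₜ SymmetricAlgebra.ι Z Z 1)

/-- The map back. -/
def ofTensor : T ⊗[Z] SymmetricAlgebra Z Z →ₐ[T] SymmetricAlgebra T T :=
  Algebra.TensorProduct.lift (Algebra.ofId T _) (GaPts.liftGen (SymmetricAlgebra.ι T T 1)) fun _ _ => Commute.all _ _

theorem toTensor_gen : toTensor Z T (SymmetricAlgebra.ι T T 1) = (1 : T) ⊗ₜ SymmetricAlgebra.ι Z Z 1 :=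
  GaPts.liftGen_gen _

theorem ofTensor_gen : ofTensor Z T ((1 : T) ⊗ₜ SymmetricAlgebra.ι Z Z 1) = SymmetricAlgebra.ι T T 1 := by
  rw [ofTensor, Algebra.TensorProduct.lift_tmul, map_one, one_mul]
  exact GaPts.liftGen_gen _

/-- The algebra isomorphism. -/
def symAlgEquiv : SymmetricAlgebra T T ≃ₐ[T] T ⊗[Z] SymmetricAlgebra Z Z :=
  AlgEquiv.ofAlgHom (toTensor Z T) (ofTensor Z T)
    (Algebra.TensorProduct.ext (Subsingleton.elim _ _) (GaPts.algHom_ext_gen (by
      show toTensor Z T (ofTensor Z T ((1 : T) ⊗ₜ SymmetricAlgebra.ι Z Z 1)) = _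
      rw [ofTensor_gen, toTensor_gen]
      rfl)))
    (GaPts.algHom_ext_gen (by
      show ofTensor Z T (toTensor Z T (SymmetricAlgebra.ι T T 1)) = _
      rw [toTensor_gen, ofTensor_gen]
      rfl))

theorem counit_toTensor :
    (Bialgebra.counitAlgHom T _).comp (symAlgEquiv Z T : SymmetricAlgebra T T →ₐ[T] T ⊗[Z] SymmetricAlgebra Z Z) =
      Bialgebra.counitAlgHom T _ := by
  refine GaPts.algHom_ext_gen ?_
  show Bialgebra.counitAlgHom T _ (toTensor Z T (SymmetricAlgebra.ι T T 1)) = _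
  rw [toTensor_gen]
  simp [SymmetricAlgebra.algebraMapInv_ι]

theorem comul_toTensor :
    (Algebra.TensorProduct.map (symAlgEquiv Z T : SymmetricAlgebra T T →ₐ[T] T ⊗[Z] SymmetricAlgebra Z Z)
        (symAlgEquiv Z T : SymmetricAlgebra T T →ₐ[T] T ⊗[Z] SymmetricAlgebra Z Z)).comp (Bialgebra.comulAlgHom T _) =
      (Bialgebra.comulAlgHom T _).comp (symAlgEquiv Z T : SymmetricAlgebra T T →ₐ[T] T ⊗[Z] SymmetricAlgebra Z Z) := by
  refine GaPts.algHom_ext_gen (K := T) (A := (T ⊗[Z] SymmetricAlgebra Z Z) ⊗[T] (T ⊗[Z] SymmetricAlgebra Z Z)) ?_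
  show Algebra.TensorProduct.map (toTensor Z T) (toTensor Z T)
      (Bialgebra.comulAlgHom T _ (SymmetricAlgebra.ι T T 1)) =
    Bialgebra.comulAlgHom T _ (toTensor Z T (SymmetricAlgebra.ι T T 1))
  rw [toTensor_gen, Bialgebra.comulAlgHom_apply, SymmetricAlgebra.comul_ι, map_add,
    Algebra.TensorProduct.map_tmul, Algebra.TensorProduct.map_tmul, toTensor_gen, map_one (toTensor Z T)]
  simp [SymmetricAlgebra.comul_ι, TensorProduct.tmul_add, Algebra.TensorProduct.one_def]

/-- The bialgebra isomorphism. -/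
def symBialg : SymmetricAlgebra T T ≃ₐc[T] T ⊗[Z] SymmetricAlgebra Z Z :=
  BialgEquiv.ofAlgEquiv (symAlgEquiv Z T) (counit_toTensor Z T) (comul_toTensor Z T)

/-- The additive group over an affine base. -/
def gaIso (T : Type u) [CommRing T] :
    Grp.mk (Red.Ga (Spec (CommRingCat.of T))) ≅ Grp.mk (Bridge.P T (SymmetricAlgebra T T)) :=
  letI : Algebra (ULift.{u} ℤ) T :=
    ((Int.castRingHom T).comp (ULift.ringEquiv : ULift.{u} ℤ ≃+* ℤ).toRingHom).toAlgebra
  Bridge.bcIso' (R := ULift.{u} ℤ) (SymmetricAlgebra (ULift.{u} ℤ) (ULift.{u} ℤ)) (S := T)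
      (specULiftZIsTerminal.hom_ext _ _) ≪≫
    Bridge.mapIso (symBialg (ULift.{u} ℤ) T)

end Groth.L26.DimOne
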